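import Groth.Agent.RefStalk.Codim
import Groth.Agent.RefStalk.Restrict
import Groth.Agent.RefStalk.Extend
import Groth.Agent.QC.Coherent
import Groth.Agent.DQCoh.Pullback
import Groth.Agent.QC.Closure

/-!
# The bidual of a submodule of a flat module on a normal scheme
-/

set_option autoImplicit false
set_option backward.isDefEq.respectTransparency false
set_option linter.style.haveILetI false
set_option linter.unusedSectionVars false

universe u

open CategoryTheory CategoryTheory.Limits AlgebraicGeometry TopologicalSpace Opposite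

noncomputable section

namespace Groth.Agent.FlatLocusHull

variable {S : Scheme.{u}}

/-- Transport of a unit along a morphism inverted by the left adjoint. -/
theorem exists_iso_of_adjunction {C : Type*} [Category C] {D : Type*} [Category D] {L : C ⥤ D} {R : D ⥤ C}
    (adj : L ⊣ R) {F G : C} (φ : F ⟶ G) [IsIso (adj.unit.app G)] [IsIso (L.map φ)] :
    ∃ e : G ≅ R.obj (L.obj F), φ ≫ e.hom = adj.unit.app F := by
  refine ⟨asIso (adj.unit.app G) ≪≫ R.mapIso (asIso (L.map φ)).symm, ?_⟩
  have hnat := adj.unit.naturality φ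
  simp only [Functor.id_obj, Functor.id_map, Functor.comp_obj, Functor.comp_map] at hnat ⊢
  simp [reassoc_of% hnat]

/-- Submodules of finite type of quasi-coherent modules are quasi-coherent. -/
theorem isQCoh_of_mono_of_isFT {A F : S.Modules} (hA : Coh.IsQCoh A) (ι : F ⟶ A) [Mono ι]
    (hF : CohB1.IsFT F) : Coh.IsQCoh F := by
  refine DQCoh.isQCoh_of_restrict_opens fun x => ?_
  obtain ⟨U, hxU, σ, -⟩ := QC.isFT_iff_exists_hasFinGen.1 hF x
  refine ⟨U, hxU, ?_⟩
  let m := (Scheme.Modules.restrictFunctor U.ι).map ι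
  haveI : Mono m := Functor.map_mono _ ι
  let p : (SheafOfModules.free (R := (U : Scheme.{u}).ringCatSheaf) σ.I : (U : Scheme.{u}).Modules) ⟶
      F.restrict U.ι := σ.π
  haveI : Epi p := σ.epi
  have hfree : Coh.IsQCoh (SheafOfModules.free (R := (U : Scheme.{u}).ringCatSheaf) σ.I : (U : Scheme.{u}).Modules) :=
    QC.isQCoh_colimit (Discrete.functor fun _ : σ.I => Coh.structureModule (U : Scheme.{u})) fun _ => QC.isQCoh_unit _
  have hAU : Coh.IsQCoh (A.restrict U.ι) := QC.isQCoh_restrict U.ι hA
  have hc : Coh.IsQCoh (cokernel m) :=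
    QC.isQCoh_of_iso (cokernelEpiComp p m) (QC.isQCoh_cokernel hfree hAU (p ≫ m))
  exact QC.isQCoh_of_iso
    ((kernelIsKernel (cokernel.π m)).conePointUniqueUpToIso (Abelian.monoIsKernelOfCokernel (CokernelCofork.ofπ (cokernel.π m) (cokernel.condition m)) (cokernelIsCokernel m)))
    (QC.isQCoh_kernel hAU hc (cokernel.π m))

theorem exists_iso_restrict (U : S.Opens) {F G : S.Modules} (φ : F ⟶ G)
    [IsIso ((Scheme.Modules.restrictAdjunction U.ι).unit.app G)]
    [IsIso ((Scheme.Modules.restrictFunctor U.ι).map φ)] :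
    ∃ e : G ≅ (Scheme.Modules.pushforward U.ι).obj (F.restrict U.ι),
      φ ≫ e.hom = (Scheme.Modules.restrictAdjunction U.ι).unit.app F :=
  exists_iso_of_adjunction (Scheme.Modules.restrictAdjunction U.ι) φ

theorem isIso_restrict (U : S.Opens) {F G : S.Modules} (φ : F ⟶ G)
    (h : ∀ x ∈ U, Function.Bijective (RefHull.stalkMapₗ φ x)) :
    IsIso ((Scheme.Modules.restrictFunctor U.ι).map φ) :=
  ZCl.isIso_of_bijective _ fun V => RefStalk.bijective_app_of_stalk φ fun x hx => by
    obtain ⟨z, -, rfl⟩ := hx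
    exact h (U.ι z) (by exact z.2)

theorem stalk_injective {A F : S.Modules} (ι : F ⟶ A) [Mono ι] (x : S) :
    Function.Injective (RefHull.stalkMapₗ ι x) := by
  rw [injective_iff_map_eq_zero]
  intro v hv
  obtain ⟨U, hU, s, rfl⟩ := TopCat.Presheaf.exists_germ_eq F.presheaf v
  rw [RefHull.stalkMapₗ_germ] at hv
  obtain ⟨W, hxW, i₁, i₂, hW⟩ := TopCat.Presheaf.germ_eq (F := A.presheaf) x hU hU (ι.app U s) (0 : Γ(A, U))
    (hv.trans (map_zero _).symm)
  have h1 : ι.app W (F.presheaf.map i₁.op s) = ι.app W 0 := by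
    rw [map_zero]
    refine ((QC.app_res ι i₁.le s).symm.trans ?_)
    exact hW.trans (map_zero _)
  have h2 : F.presheaf.map i₁.op s = 0 := ZCl.injective_of_mono ι W h1
  rw [← TopCat.Presheaf.germ_res_apply F.presheaf i₁ x hxW, h2, map_zero]

/-- The bidual is the extension from the flatness locus. -/
theorem exists_iso [IsNoetherian S] (hS : Pi1.IsNormalScheme S) {A F : S.Modules} (hA : Coh.IsQCoh A)
    (hAfl : FlatMod.IsFlat A) (ι : F ⟶ A) [Mono ι] (hF : CohB1.IsFT F) (U : S.Opens)
    (hU : (U : Set S) = {s : S | FlatMod.IsFlatAt F s}) :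
    ∃ e : RefHull.ddual F ≅ (Scheme.Modules.pushforward U.ι).obj (F.restrict U.ι),
      RefHull.bidualMap F ≫ e.hom = (Scheme.Modules.restrictAdjunction U.ι).unit.app F := by
  have hFc : Coh.IsCoh F := ⟨isQCoh_of_mono_of_isFT hA ι hF, hF⟩
  have hfree : ∀ x ∈ U, Module.Free (S.presheaf.stalk x) (F.presheaf.stalk x) := fun x hx => by
    have hx' : x ∈ (U : Set S) := hx
    rw [hU] at hx'
    haveI : Module.Flat (S.presheaf.stalk x) (F.presheaf.stalk x) := hx'
    haveI := RegDual.finite_stalk hFc x
    exact Module.free_of_flat_of_isLocalRing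
  have hoff : ∀ x ∉ U, (2 : WithBot ℕ∞) ≤ ringKrullDim (S.presheaf.stalk x) := fun x hx => by
    by_contra hd
    haveI := (hS x).1
    have htf : Module.IsTorsionFree (S.presheaf.stalk x) (F.presheaf.stalk x) := by
      haveI : Module.Flat (S.presheaf.stalk x) (A.presheaf.stalk x) := hAfl x
      exact (stalk_injective ι x).moduleIsTorsionFree _ (map_smul _)
    haveI := RefStalk.free_stalk_codim_one hS hFc x htf hd
    refine hx ?_
    show x ∈ (U : Set S)
    rw [hU]
    show Module.Flat (S.presheaf.stalk x) (F.presheaf.stalk x)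
    infer_instance
  let G := RefHull.ddual F
  have hGc : Coh.IsCoh G := RefStalk.isCoh_homSh (RefStalk.isCoh_homSh hFc RefStalk.isCoh_structureModule)
    RefStalk.isCoh_structureModule
  have hdepth : ∀ x ∉ U, (2 : ℕ∞) ≤ LocCoh.depth (S.presheaf.stalk x) (G.presheaf.stalk x) := fun x hx => by
    refine RefStalk.two_le_depth_of_isReflexiveAt hGc x ?_ (RefStalk.two_le_depth hS x (hoff x hx))
    haveI := (hS x).1
    have hd := RefStalk.isCoh_homSh hFc (RefStalk.isCoh_structureModule (X := S))
    haveI := RegDual.finite_stalk hd x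
    obtain ⟨e, -⟩ := RefStalk.exists_structStalk x
    let ev := LinearEquiv.ofBijective _
      (RefStalk.bijective_evalStalk_of_isCoh (G := Coh.structureModule S) hd x)
    let E : G.presheaf.stalk x ≃ₗ[S.presheaf.stalk x]
        Module.Dual (S.presheaf.stalk x) ((RefHull.dual F).presheaf.stalk x) :=
      ev ≪≫ₗ LinearEquiv.arrowCongr (LinearEquiv.refl _ _) e.symm
    haveI := RefStalk.isReflexive_dual (R := S.presheaf.stalk x) (M := (RefHull.dual F).presheaf.stalk x)
    exact Module.IsReflexive.of_split E.toLinearMap E.symm.toLinearMap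
      (LinearMap.ext fun m => E.symm_apply_apply m)
  haveI := RefStalk.isIso_unit_of_depth hGc U hdepth
  haveI := isIso_restrict U (RefHull.bidualMap F) fun x hx => by
    haveI := hfree x hx
    haveI := RegDual.finite_stalk hFc x
    refine RefStalk.bijective_stalkMap_bidualMap hFc x ?_
    show Module.IsReflexive _ _
    infer_instance
  exact exists_iso_restrict U (RefHull.bidualMap F)

end Groth.Agent.FlatLocusHull
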